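import Groth.Agent.CycB.RelDim4
import Groth.Agent.CycB.RelDim3
import Groth.Agent.EssDim.K995.FieldTr
import Groth.Agent.Variety.K426.Cut
import Groth.Agent.FibDim.K582.RelDim
import Groth.Agent.S2768
import Groth.Agent.Grass.K652.ChartAff

/-!
# Fibre dimensions and transcendence degrees

* `rtd_le_of_isPullback`: `trdeg (κ(t) / κ(y)) ≤ trdeg (κ(x) / κ(s))` for `t ∈ X ×_S Y` over `x`, `y`;
* `le_dim_iff`: dimension of `W ∩ f⁻¹(y)`, `W` closed, by transcendence degrees;
* `dim_le`, `dim_lt`: fibres of `A^n_X → A^n_Y`.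
-/

set_option autoImplicit false

universe u

open CategoryTheory CategoryTheory.Limits AlgebraicGeometry Opposite Cardinal Topology

namespace K274.FibDim

open Groth.Agent.CycB.RelDim Groth.Agent.CycB.TrdegAlg Scheme.Pullback

section Compositum

variable {X Y S : Scheme.{u}} {f : X ⟶ S} {g : Y ⟶ S}

theorem rtd_snd_le (t : ↥(pullback f g)) :
    rtd (pullback.snd f g) t ≤ rtd f (pullback.fst f g t) := by
  have hfrac := fracGen_ofPointTensor t
  set T := Triplet.ofPoint t with hT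
  let φ₁ := (S.residueFieldCongr T.hx).inv ≫ f.residueFieldMap T.x
  let φ₂ := (S.residueFieldCongr T.hy).inv ≫ g.residueFieldMap T.y
  have hpo : CategoryTheory.IsPushout φ₁ φ₂ T.tensorInl T.tensorInr :=
    CategoryTheory.IsPushout.of_hasPushout _ _
  let _ : Algebra (S.residueField T.s) (X.residueField T.x) := φ₁.hom.toAlgebra
  let _ : Algebra (S.residueField T.s) (Y.residueField T.y) := φ₂.hom.toAlgebra
  let _ : Algebra (X.residueField T.x) T.tensor := T.tensorInl.hom.toAlgebra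
  let _ : Algebra (Y.residueField T.y) T.tensor := T.tensorInr.hom.toAlgebra
  let _ : Algebra (S.residueField T.s) T.tensor := (φ₁ ≫ T.tensorInl).hom.toAlgebra
  have : IsScalarTower (S.residueField T.s) (X.residueField T.x) T.tensor :=
    .of_algebraMap_eq fun _ => rfl
  have : IsScalarTower (S.residueField T.s) (Y.residueField T.y) T.tensor :=
    .of_algebraMap_eq fun a => congrArg (fun φ => φ.hom a) hpo.w
  have hpo' : Algebra.IsPushout (S.residueField T.s) (X.residueField T.x) (Y.residueField T.y)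
    T.tensor := CommRingCat.isPushout_iff_isPushout.mp hpo
  let L := (pullback f g).residueField t
  let ψ : T.tensor →+* L := (ofPointTensor t).hom
  let _ : Algebra (X.residueField T.x) L := (ψ.comp (algebraMap (X.residueField T.x) T.tensor)).toAlgebra
  let _ : Algebra (Y.residueField T.y) L := (ψ.comp (algebraMap (Y.residueField T.y) T.tensor)).toAlgebra
  let _ : Algebra (S.residueField T.s) L := (ψ.comp (algebraMap (S.residueField T.s) T.tensor)).toAlgebra
  have : IsScalarTower (S.residueField T.s) (X.residueField T.x) L :=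
    .of_algebraMap_eq fun _ => rfl
  have : IsScalarTower (S.residueField T.s) (Y.residueField T.y) L :=
    .of_algebraMap_eq fun a => congrArg ψ (IsScalarTower.algebraMap_apply (S.residueField T.s)
      (Y.residueField T.y) T.tensor a)
  have hmem : ∀ a : T.tensor, ψ a ∈ IntermediateField.adjoin (Y.residueField T.y)
      (Set.range (algebraMap (X.residueField T.x) L)) := by
    intro a
    refine hpo'.out.inductionOn a _ (by rw [map_zero]; exact zero_mem _) (fun b => ?_) (fun c n hn => ?_)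
      (fun n₁ n₂ h₁ h₂ => by rw [map_add]; exact add_mem h₁ h₂)
    · exact (IntermediateField.adjoin (Y.residueField T.y)
        (Set.range (algebraMap (X.residueField T.x) L))).algebraMap_mem b
    · rw [Algebra.smul_def, map_mul]
      exact mul_mem (IntermediateField.subset_adjoin _ _ ⟨c, rfl⟩) hn
  have htop : IntermediateField.adjoin (Y.residueField T.y)
      (Set.range (algebraMap (X.residueField T.x) L)) = ⊤ := by
    rw [eq_top_iff]
    intro z _
    obtain ⟨a, b, hb, hab⟩ := hfrac z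
    have : z = ψ a * (ψ b)⁻¹ := by
      rw [← hab]
      exact (mul_inv_cancel_right₀ hb z).symm
    rw [this]
    exact mul_mem (hmem a) (inv_mem (hmem b))
  have key := K995.FieldTr.trdeg_le_of_adjoin_range (S.residueField T.s) (Y.residueField T.y)
    (X.residueField T.x) L htop
  have h1 : T.tensorInr ≫ ofPointTensor t = (pullback.snd f g).residueFieldMap t :=
    pushout.inr_desc _ _ _
  have h2 : algebraMap (Y.residueField T.y) L = ((pullback.snd f g).residueFieldMap t).hom := by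
    rw [← h1]; rfl
  rw [← trd_algebraMap, ← trd_algebraMap, h2] at key
  refine key.trans (le_of_eq ?_)
  change trd φ₁.hom = _
  rw [CommRingCat.hom_comp]
  exact trd_comp_surjective' _ _
    (ConcreteCategory.bijective_of_isIso (S.residueFieldCongr T.hx).inv).2

theorem rtd_le_of_isPullback {P : Scheme.{u}} {p : P ⟶ X} {q : P ⟶ Y} (h : IsPullback p q f g) (t : P) :
    rtd q t ≤ rtd f (p t) := by
  have h1 : q = h.isoPullback.hom ≫ pullback.snd f g := h.isoPullback_hom_snd.symm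
  have h2 : p = h.isoPullback.hom ≫ pullback.fst f g := h.isoPullback_hom_fst.symm
  have h3 : rtd q t = rtd (pullback.snd f g) (h.isoPullback.hom t) := by
    conv_lhs => rw [h1]
    rw [rtd_comp, rtd_eq_zero_of_isPreimmersion h.isoPullback.hom t, add_zero]
  have h4 : p t = pullback.fst f g (h.isoPullback.hom t) := by
    conv_lhs => rw [h2]
    rfl
  rw [h3, h4]
  exact rtd_snd_le _

end Compositum

section Fibre

variable {X Y : Scheme.{u}} (f : X ⟶ Y)

theorem dim_inter_eq (W : Set X) (y : Y) :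
    topologicalKrullDim ↥(W ∩ f ⁻¹' {y}) = topologicalKrullDim ↥((f.fiberι y) ⁻¹' W) := by
  have h1 : (f.fiberι y) '' ((f.fiberι y) ⁻¹' W) = W ∩ f ⁻¹' {y} := by
    rw [Set.image_preimage_eq_inter_range, Scheme.Hom.range_fiberι]
  rw [← h1]
  exact (IsHomeomorph.topologicalKrullDim_eq _
    ((f.fiberι y).isEmbedding.homeomorphImage ((f.fiberι y) ⁻¹' W)).isHomeomorph).symm

/-- Dimension of `W ∩ f⁻¹(y)`. -/
theorem le_dim_iff [LocallyOfFiniteType f] {W : Set X} (hW : IsClosed W) (y : Y) (m : ℕ) :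
    (m : WithBot ℕ∞) ≤ topologicalKrullDim ↥(W ∩ f ⁻¹' {y}) ↔
      ∃ x ∈ W, f x = y ∧ (m : Cardinal.{u}) ≤ rtd f x := by
  have hy : ∀ z : f.fiber y, f (f.fiberι y z) = y := by
    intro z
    have : f.fiberι y z ∈ Set.range (f.fiberι y) := ⟨z, rfl⟩
    rw [Scheme.Hom.range_fiberι] at this
    exact this
  rw [dim_inter_eq]
  have hV : IsClosed ((f.fiberι y) ⁻¹' W) := hW.preimage (f.fiberι y).continuous
  constructor
  · intro h
    by_contra hcon
    push Not at hcon
    have hcon' : ∀ z ∈ (f.fiberι y) ⁻¹' W, rtd f (f.fiberι y z) < (m : Cardinal.{u}) :=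
      fun z hz => hcon _ hz (hy z)
    cases m with
    | zero =>
      have h1 : topologicalKrullDim ↥((f.fiberι y) ⁻¹' W) = ⊥ := by
        unfold topologicalKrullDim
        rw [Order.krullDim_eq_bot_iff]
        exact ⟨fun s => absurd (hcon' _ (s.isIrreducible.nonempty.some).2) (by simp)⟩
      rw [h1] at h
      exact absurd h (by simp)
    | succ m =>
      have h1 : topologicalKrullDim ↥((f.fiberι y) ⁻¹' W) ≤ (m : WithBot ℕ∞) := by
        rw [Groth.Agent.VarietyB.DimTop.topologicalKrullDim_eq_iSup_irreducibleComponents]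
        refine iSup_le fun C => ?_
        obtain ⟨c, -, h2, -, h4⟩ := K426.Cut.exists_of_mem_irreducibleComponents hV C.2
        obtain ⟨n, hn, hn'⟩ := exists_dim_closure_fiber f y c
        rw [h4, hn']
        have h5 := hcon' c h2
        rw [hn] at h5
        have h6 : n < m + 1 := by exact_mod_cast h5
        exact_mod_cast Nat.lt_succ_iff.mp h6
      have h2 : m + 1 ≤ m := by exact_mod_cast h.trans h1
      omega
  · rintro ⟨x, hx, rfl, hm⟩
    obtain ⟨n, hn, hn'⟩ := exists_dim_closure_fiber f (f x) (f.asFiber x)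
    rw [Scheme.Hom.fiberι_asFiber] at hn
    rw [hn] at hm
    have h1 : topologicalKrullDim (closure {f.asFiber x} : Set (f.fiber (f x))) ≤
        topologicalKrullDim ↥((f.fiberι (f x)) ⁻¹' W) :=
      Groth.Agent.Fga.DimLt.topologicalKrullDim_mono (closure_minimal (Set.singleton_subset_iff.mpr (by
        rw [Set.mem_preimage, Scheme.Hom.fiberι_asFiber]
        exact hx)) hV)
    rw [hn'] at h1
    exact le_trans (by exact_mod_cast hm) h1

/-- The generic point of an irreducible fibre. -/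
theorem exists_generic [GeometricallyIrreducible f] (y : Y) :
    ∃ ζ : X, f ζ = y ∧ ∀ z : X, f z = y → ζ ⤳ z := by
  refine ⟨f.fiberι y (genericPoint (f.fiber y)), ?_, ?_⟩
  · have : f.fiberι y (genericPoint (f.fiber y)) ∈ Set.range (f.fiberι y) := ⟨_, rfl⟩
    rw [Scheme.Hom.range_fiberι] at this
    exact this
  · rintro z rfl
    have h1 : genericPoint (f.fiber (f z)) ⤳ f.asFiber z := genericPoint_specializes _
    have h2 := h1.map (f.fiberι (f z)).continuous
    rwa [Scheme.Hom.fiberι_asFiber] at h2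

end Fibre

section Affine

variable {n : ℕ} {X Y : Scheme.{u}} (π : X ⟶ Y) [LocallyOfFiniteType π]

theorem hasRelDim (Z : Scheme.{u}) : Cyc.HasRelDim (𝔸(ULift.{u} (Fin n); Z) ↘ Z) n := by
  have := K652.ChartAff.smooth_affineSpace n Z
  rw [K582.FibRelDim.hasRelDim_iff]
  intro x
  exact Groth.Agent.S2768.result n (𝔸(ULift.{u} (Fin n); Z) ↘ Z) x

theorem locallyOfFiniteType_map : LocallyOfFiniteType (AffineSpace.map (ULift.{u} (Fin n)) π) :=
  MorphismProperty.of_isPullback (P := @LocallyOfFiniteType) (AffineSpace.isPullback_map π).flip inferInstance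

/-- **Fibre dimension and base change.** -/
theorem dim_le (W : Set X) (hW : IsClosed W) (y₁ : 𝔸(ULift.{u} (Fin n); Y)) :
    topologicalKrullDim ↥(((𝔸(ULift.{u} (Fin n); X) ↘ X) ⁻¹' W) ∩
        (AffineSpace.map (ULift.{u} (Fin n)) π) ⁻¹' {y₁}) ≤
      topologicalKrullDim ↥(W ∩ π ⁻¹' {(𝔸(ULift.{u} (Fin n); Y) ↘ Y) y₁}) := by
  have := locallyOfFiniteType_map (n := n) π
  have hP := AffineSpace.isPullback_map (n := ULift.{u} (Fin n)) π
  rw [K426.DimFib.le_iff_forall_nat]
  intro m hm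
  obtain ⟨z, hzW, hz, hmz⟩ := (le_dim_iff _
    (hW.preimage (𝔸(ULift.{u} (Fin n); X) ↘ X).continuous) y₁ m).mp hm
  rw [le_dim_iff π hW]
  refine ⟨(𝔸(ULift.{u} (Fin n); X) ↘ X) z, hzW, ?_, hmz.trans (rtd_le_of_isPullback hP.flip z)⟩
  rw [← hz, ← Scheme.Hom.comp_apply, ← Scheme.Hom.comp_apply, hP.w]

/-- **Fibre dimension after a cut.** -/
theorem dim_lt (W : Set X) (hW : IsClosed W)
    (T : Set (𝔸(ULift.{u} (Fin n); X))) (hT : IsClosed T)
    (hTW : ∀ z ∈ T, (𝔸(ULift.{u} (Fin n); X) ↘ X) z ∈ W)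
    (hTg : ∀ z ∈ T, ∃ z', (𝔸(ULift.{u} (Fin n); X) ↘ X) z' = (𝔸(ULift.{u} (Fin n); X) ↘ X) z ∧ ¬ z ⤳ z')
    (y₁ : 𝔸(ULift.{u} (Fin n); Y))
    (hgen : ∀ z, (𝔸(ULift.{u} (Fin n); Y) ↘ Y) z = (𝔸(ULift.{u} (Fin n); Y) ↘ Y) y₁ → y₁ ⤳ z)
    (m : ℕ) (h : topologicalKrullDim ↥(W ∩ π ⁻¹' {(𝔸(ULift.{u} (Fin n); Y) ↘ Y) y₁}) <
      ((m + 1 : ℕ) : WithBot ℕ∞)) :
    topologicalKrullDim ↥(T ∩ (AffineSpace.map (ULift.{u} (Fin n)) π) ⁻¹' {y₁}) <
      ((m : ℕ) : WithBot ℕ∞) := by
  have := locallyOfFiniteType_map (n := n) π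
  have hP := AffineSpace.isPullback_map (n := ULift.{u} (Fin n)) π
  have hX := hasRelDim (n := n) X
  have hY := hasRelDim (n := n) Y
  have hlX : LocallyOfFiniteType (𝔸(ULift.{u} (Fin n); X) ↘ X) := by
    have := K652.ChartAff.smooth_affineSpace n X
    have : Smooth (𝔸(ULift.{u} (Fin n); X) ↘ X) := SmoothOfRelativeDimension.smooth n _
    infer_instance
  have hlY : LocallyOfFiniteType (𝔸(ULift.{u} (Fin n); Y) ↘ Y) := by
    have := K652.ChartAff.smooth_affineSpace n Y
    have : Smooth (𝔸(ULift.{u} (Fin n); Y) ↘ Y) := SmoothOfRelativeDimension.smooth n _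
    infer_instance
  by_contra hcon
  rw [not_lt, le_dim_iff _ hT] at hcon
  obtain ⟨z, hzT, hz, hmz⟩ := hcon
  refine absurd h (not_lt.mpr ?_)
  rw [le_dim_iff π hW]
  refine ⟨(𝔸(ULift.{u} (Fin n); X) ↘ X) z, hTW z hzT, ?_, ?_⟩
  · rw [← hz, ← Scheme.Hom.comp_apply, ← Scheme.Hom.comp_apply, hP.w]
  · have e1 : rtd ((𝔸(ULift.{u} (Fin n); X) ↘ X) ≫ π) z =
        rtd (AffineSpace.map (ULift.{u} (Fin n)) π ≫ (𝔸(ULift.{u} (Fin n); Y) ↘ Y)) z := by rw [hP.w]
    rw [rtd_comp, rtd_comp, hz] at e1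
    have hg : FibGeneric (𝔸(ULift.{u} (Fin n); Y) ↘ Y) y₁ :=
      fun x' hx' hsp => (hsp.antisymm (hgen x' hx')).eq
    have h2 := rtd_of_fibGeneric hY hg
    have h3 : ¬ FibGeneric (𝔸(ULift.{u} (Fin n); X) ↘ X) z := by
      intro hfg
      obtain ⟨ζ, hζ, hζ'⟩ := exists_generic (𝔸(ULift.{u} (Fin n); X) ↘ X) ((𝔸(ULift.{u} (Fin n); X) ↘ X) z)
      have : ζ = z := hfg ζ hζ (hζ' z rfl)
      subst this
      obtain ⟨z', hz', hn⟩ := hTg ζ hzT
      exact hn (hζ' z' hz')
    have h4 : rtd (𝔸(ULift.{u} (Fin n); X) ↘ X) z < (n : Cardinal.{u}) :=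
      lt_of_le_of_ne (rtd_le hX z) fun h => h3 ((fibGeneric_iff hX z).mpr h)
    obtain ⟨a, ha⟩ := Cardinal.lt_aleph0.mp (rtd_lt_aleph0 π ((𝔸(ULift.{u} (Fin n); X) ↘ X) z))
    obtain ⟨b, hb⟩ := Cardinal.lt_aleph0.mp (rtd_lt_aleph0 (𝔸(ULift.{u} (Fin n); X) ↘ X) z)
    obtain ⟨c, hc⟩ := Cardinal.lt_aleph0.mp (rtd_lt_aleph0 (AffineSpace.map (ULift.{u} (Fin n)) π) z)
    rw [ha, hb, hc, h2] at e1
    rw [hb] at h4
    rw [hc] at hmz
    rw [ha]
    have e1' : a + b = n + c := by exact_mod_cast e1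
    have h4' : b < n := by exact_mod_cast h4
    have hmz' : m ≤ c := by exact_mod_cast hmz
    have : m + 1 ≤ a := by omega
    exact_mod_cast this

end Affine

end K274.FibDim
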