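import Groth.Agent.IntSh.K878.FibDelta
import Groth.Agent.IntSh.K274.FibDim

/-!
# The dimension function `dl` on the fibres of `A^n_X → A^n_Y`

* `dl_le_of_isPullback`: `dl` does not grow under base change;
* `dl_map_le`, `dl_map_lt`: the morphism `A^n_X → A^n_Y`.
-/

set_option autoImplicit false

universe u

open CategoryTheory CategoryTheory.Limits AlgebraicGeometry Opposite Cardinal Topology

namespace K274.FibDl

open Groth.Agent.CycB.RelDim K878.FibDelta K274.FibDim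

theorem dl_le_of_isPullback {X Y S P : Scheme.{u}} {f : X ⟶ S} {g : Y ⟶ S} [LocallyOfFiniteType f]
    {p : P ⟶ X} {q : P ⟶ Y} (h : IsPullback p q f g) (t : P) : dl q t ≤ dl f (p t) :=
  dl_le_of_rtd_le ((rtd_le_of_isPullback h t).trans (dl_cast f (p t)).ge)

theorem dl_map_le {n : ℕ} {X Y : Scheme.{u}} (π : X ⟶ Y) [LocallyOfFiniteType π]
    (z : 𝔸(ULift.{u} (Fin n); X)) :
    dl (AffineSpace.map (ULift.{u} (Fin n)) π) z ≤ dl π ((𝔸(ULift.{u} (Fin n); X) ↘ X) z) :=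
  dl_le_of_isPullback (AffineSpace.isPullback_map (n := ULift.{u} (Fin n)) π).flip z

theorem dl_map_lt {n : ℕ} {X Y : Scheme.{u}} (π : X ⟶ Y) [LocallyOfFiniteType π]
    (z : 𝔸(ULift.{u} (Fin n); X))
    (hz : ∃ z', (𝔸(ULift.{u} (Fin n); X) ↘ X) z' = (𝔸(ULift.{u} (Fin n); X) ↘ X) z ∧ ¬ z ⤳ z')
    (hgen : ∀ w, (𝔸(ULift.{u} (Fin n); Y) ↘ Y) w =
      (𝔸(ULift.{u} (Fin n); Y) ↘ Y) (AffineSpace.map (ULift.{u} (Fin n)) π z) →
        AffineSpace.map (ULift.{u} (Fin n)) π z ⤳ w) :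
    dl (AffineSpace.map (ULift.{u} (Fin n)) π) z < dl π ((𝔸(ULift.{u} (Fin n); X) ↘ X) z) := by
  have := locallyOfFiniteType_map (n := n) π
  have hP := AffineSpace.isPullback_map (n := ULift.{u} (Fin n)) π
  have hX := hasRelDim (n := n) X
  have hY := hasRelDim (n := n) Y
  have hlX : LocallyOfFiniteType (𝔸(ULift.{u} (Fin n); X) ↘ X) := by
    have := K652.ChartAff.smooth_affineSpace n X
    have : Smooth (𝔸(ULift.{u} (Fin n); X) ↘ X) := SmoothOfRelativeDimension.smooth n _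
    infer_instance
  have hlY : LocallyOfFiniteType (𝔸(ULift.{u} (Fin n); Y) ↘ Y) := by
    have := K652.ChartAff.smooth_affineSpace n Y
    have : Smooth (𝔸(ULift.{u} (Fin n); Y) ↘ Y) := SmoothOfRelativeDimension.smooth n _
    infer_instance
  have e1 : dl ((𝔸(ULift.{u} (Fin n); X) ↘ X) ≫ π) z =
      dl (AffineSpace.map (ULift.{u} (Fin n)) π ≫ (𝔸(ULift.{u} (Fin n); Y) ↘ Y)) z := by rw [hP.w]
  rw [dl_comp, dl_comp] at e1
  have hg : FibGeneric (𝔸(ULift.{u} (Fin n); Y) ↘ Y) (AffineSpace.map (ULift.{u} (Fin n)) π z) :=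
    fun x' hx' hsp => (hsp.antisymm (hgen x' hx')).eq
  have h2 : dl (𝔸(ULift.{u} (Fin n); Y) ↘ Y) (AffineSpace.map (ULift.{u} (Fin n)) π z) = n := by
    have := dl_cast (𝔸(ULift.{u} (Fin n); Y) ↘ Y) (AffineSpace.map (ULift.{u} (Fin n)) π z)
    rw [rtd_of_fibGeneric hY hg] at this
    exact_mod_cast this
  obtain ⟨z', hz', hn⟩ := hz
  obtain ⟨ζ, hζ, hζ'⟩ := exists_generic (𝔸(ULift.{u} (Fin n); X) ↘ X) ((𝔸(ULift.{u} (Fin n); X) ↘ X) z)
  have h3 : dl (𝔸(ULift.{u} (Fin n); X) ↘ X) z < dl (𝔸(ULift.{u} (Fin n); X) ↘ X) ζ := by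
    refine dl_lt_of_specializes _ (hζ' z rfl) ?_ hζ
    rintro rfl
    exact hn (hζ' z' hz')
  have h4 : dl (𝔸(ULift.{u} (Fin n); X) ↘ X) ζ ≤ n := dl_le_of_rtd_le (rtd_le hX ζ)
  omega

end K274.FibDl
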